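import Cfsg.Agent.H371.Core.Fam
import Cfsg.Agent.H378.TwRows
import Cfsg.Agent.H972.NSm
import Cfsg.Agent.S1059
import Cfsg.Agent.S1067

/-!
# S2242: nilpotent subgroups of order prime to the characteristic, `G₂(q)` and `³D₄(q)` (helper270, task 435)
-/

set_option autoImplicit false

namespace Cfsg.Agent.H270.NS

open Cfsg Cfsg.Lie Subgroup Cfsg.Agent.H972.NSm Cfsg.Agent.H378.ExcAdj

universe u

theorem od_three {q r : ℕ} (hr : r.Prime) (hr3 : r ≠ 3) (h : r ∣ q ^ 2 + q + 1) : od q r = 3 := by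
  have := Fact.mk hr
  have h1 : od q r ∣ 3 := by
    rw [od, ← H378.CycTab.dvd_iff]
    have h2 : (r : ℤ) ∣ (q : ℤ) ^ 2 + q + 1 := by exact_mod_cast h
    refine h2.trans ⟨(q : ℤ) - 1, by ring⟩
  rcases (Nat.dvd_prime Nat.prime_three).1 h1 with h2 | h2
  · exfalso
    have h3 : ((q : ℕ) : ZMod r) = 1 := orderOf_eq_one_iff.1 h2
    have h4 : ((q ^ 2 + q + 1 : ℕ) : ZMod r) = 0 := (ZMod.natCast_eq_zero_iff _ _).2 h
    push_cast at h4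
    rw [h3] at h4
    have h5 : ((3 : ℕ) : ZMod r) = 0 := by
      push_cast
      have : (1 : ZMod r) ^ 2 + 1 + 1 = 3 := by norm_num
      rw [← this]
      exact h4
    exact hr3 ((Nat.prime_dvd_prime_iff_eq hr Nat.prime_three).1 ((ZMod.natCast_eq_zero_iff _ _).1 h5))
  · exact h2

theorem three_split (q : ℕ) : ∃ c K : ℕ, q ^ 2 + q + 1 = c * K ∧ c ≤ 3 ∧ ¬ 3 ∣ K := by
  by_cases h : 3 ∣ q ^ 2 + q + 1
  · obtain ⟨K, hK⟩ := h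
    refine ⟨3, K, hK, le_refl _, ?_⟩
    rintro ⟨t, rfl⟩
    have h1 : (q ^ 2 + q + 1) % 9 = 0 := by
      rw [hK]
      omega
    have h2 : q % 9 < 9 := Nat.mod_lt _ (by norm_num)
    rw [Nat.add_mod, Nat.add_mod (q ^ 2), Nat.pow_mod] at h1
    interval_cases (q % 9) <;> simp_all
  · exact ⟨1, q ^ 2 + q + 1, (one_mul _).symm, by norm_num, h⟩

theorem off_G2' (F : Type) [Field F] [Fintype F] (hF : 3 ≤ Fintype.card F) {p : ℕ} (hp : p.Prime) [CharP F p] :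
    SmallOff p ↥(chevG2.group F) := by
  obtain ⟨a, hp', ha⟩ := FiniteField.card F p
  set q := Fintype.card F with hq
  obtain ⟨c, K, hcK, hc, h3K⟩ := three_split q
  have hcard : Nat.card ↥(chevG2.group F) = q ^ 6 * (q ^ 2 - 1) * (q ^ 6 - 1) := S1059.result rfl
  have h1 : 1 ≤ q ^ 2 := Nat.one_le_pow _ _ (by omega)
  have h6 : 1 ≤ q ^ 6 := Nat.one_le_pow _ _ (by omega)
  have hqq : q ≤ q ^ 2 := Nat.le_self_pow (by norm_num) q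
  have hq3 : (3 : ℤ) ≤ q := by exact_mod_cast hF
  have hK0 : 0 < K := by
    rcases Nat.eq_zero_or_pos K with h0 | h0
    · rw [h0, mul_zero] at hcK
      omega
    · exact h0
  have hcard' : Nat.card ↥(chevG2.group F) = p ^ ((a : ℕ) * 6) * ((c * (q ^ 2 - 1) ^ 2 * (q ^ 2 - q + 1)) * K) := by
    rw [hcard, pow_mul, ← ha]
    have h5 : (q ^ 2 - 1) * (q ^ 6 - 1) = (c * (q ^ 2 - 1) ^ 2 * (q ^ 2 - q + 1)) * K := by
      have e : c * (q ^ 2 - 1) ^ 2 * (q ^ 2 - q + 1) * K = (q ^ 2 - 1) ^ 2 * (q ^ 2 - q + 1) * (c * K) := by ring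
      rw [e, ← hcK]
      zify [h1, h6, hqq]
      ring
    rw [← h5]
    ring
  have hpos : 0 < q ^ 2 - 1 := by
    have : 9 ≤ q ^ 2 := by nlinarith
    omega
  refine smallOff_of_smallAt hp K.primeFactors (a * 6) (c * (q ^ 2 - 1) ^ 2 * (q ^ 2 - q + 1)) K hcard' ?_ ?_ ?_
  · intro r hr hd
    exact Nat.mem_primeFactors.2 ⟨hr, hd, hK0.ne'⟩
  · rw [hcard]
    have h2 : (c * (q ^ 2 - 1) ^ 2 * (q ^ 2 - q + 1)) ^ 2 ≤ (3 * (q ^ 2 - 1) ^ 2 * (q ^ 2 - q + 1)) ^ 2 := by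
      gcongr
    refine h2.trans_lt ?_
    have h7 : (3 * ((q : ℤ) ^ 2 - 1) ^ 2 * ((q : ℤ) ^ 2 - q + 1)) ^ 2 < (q : ℤ) ^ 6 * ((q : ℤ) ^ 2 - 1) * ((q : ℤ) ^ 6 - 1) := by
      have e1 : (q : ℤ) ^ 6 * ((q : ℤ) ^ 2 - 1) * ((q : ℤ) ^ 6 - 1) =
          (((q : ℤ) ^ 2 - 1) ^ 2 * ((q : ℤ) ^ 2 - q + 1)) * ((q : ℤ) ^ 4 * ((q : ℤ) ^ 2 * ((q : ℤ) ^ 2 + q + 1))) := by ring
      have e2 : (3 * ((q : ℤ) ^ 2 - 1) ^ 2 * ((q : ℤ) ^ 2 - q + 1)) ^ 2 =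
          (((q : ℤ) ^ 2 - 1) ^ 2 * ((q : ℤ) ^ 2 - q + 1)) * ((((q : ℤ) ^ 2 - 1) ^ 2) * (9 * ((q : ℤ) ^ 2 - q + 1))) := by ring
      rw [e1, e2]
      have hA : 0 < ((q : ℤ) ^ 2 - 1) := by nlinarith
      have hB : 0 < ((q : ℤ) ^ 2 - q + 1) := by nlinarith
      refine mul_lt_mul_of_pos_left ?_ (by positivity)
      have h8 : ((q : ℤ) ^ 2 - 1) ^ 2 < (q : ℤ) ^ 4 := by nlinarith
      have h9 : 9 * ((q : ℤ) ^ 2 - q + 1) ≤ (q : ℤ) ^ 2 * ((q : ℤ) ^ 2 + q + 1) := by nlinarith [mul_nonneg (sub_nonneg.2 hq3) (sub_nonneg.2 hq3)]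
      exact mul_lt_mul'' h8 (lt_of_le_of_ne h9 (by nlinarith)) (by positivity) (by positivity)
    zify [h1, h6, hqq]
    exact h7
  · intro r hr hrp
    have hrK := (Nat.mem_primeFactors.1 hr).2.1
    have hr3 : r ≠ 3 := by
      rintro rfl
      exact h3K hrK
    have hod : od q r = 3 := od_three hrp hr3 (hcK ▸ Dvd.dvd.mul_left hrK c)
    refine smallAt_of_cent hrp fun x hx => ⟨q ^ 2 + q + 1, nle_of_card ?_, ?_⟩
    · have h2 := (H371.Core.tor_G2_3 F).ct r hrp (by rw [Nat.card_eq_fintype_card]; exact hod) x hx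
      rw [h2, H371.CycEval.ev3, Nat.card_eq_fintype_card, ← hq]
      have : ((q : ℤ) ^ 2 + q + 1).natAbs = q ^ 2 + q + 1 := by
        have : ((q : ℤ) ^ 2 + q + 1) = ((q ^ 2 + q + 1 : ℕ) : ℤ) := by push_cast; ring
        rw [this, Int.natAbs_natCast]
      rw [this]
    · rw [hcard]
      have h7 : ((q : ℤ) ^ 2 + q + 1) ^ 2 < (q : ℤ) ^ 6 * ((q : ℤ) ^ 2 - 1) * ((q : ℤ) ^ 6 - 1) := by
        have hA : (8 : ℤ) ≤ ((q : ℤ) ^ 2 - 1) := by nlinarith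
        have hB : (1 : ℤ) ≤ ((q : ℤ) ^ 6 - 1) := by
          have : (3 : ℤ) ^ 6 ≤ (q : ℤ) ^ 6 := pow_le_pow_left₀ (by norm_num) hq3 6
          linarith
        have hC : ((q : ℤ) ^ 2 + q + 1) ≤ (q : ℤ) ^ 3 := by nlinarith [mul_nonneg (sub_nonneg.2 hq3) (sub_nonneg.2 hq3)]
        have hD : ((q : ℤ) ^ 2 + q + 1) ^ 2 ≤ ((q : ℤ) ^ 3) ^ 2 := pow_le_pow_left₀ (by positivity) hC 2
        have hE : (0 : ℤ) < (q : ℤ) ^ 6 := by positivity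
        calc ((q : ℤ) ^ 2 + q + 1) ^ 2 ≤ (q : ℤ) ^ 6 := by rw [← pow_mul] at hD; exact hD
          _ < (q : ℤ) ^ 6 * 8 := by linarith
          _ ≤ (q : ℤ) ^ 6 * ((q : ℤ) ^ 2 - 1) := by gcongr
          _ = (q : ℤ) ^ 6 * ((q : ℤ) ^ 2 - 1) * 1 := by ring
          _ ≤ _ := by gcongr
      zify [h1, h6, hqq]
      exact h7

theorem off_G2 {G : Type u} [Group G] [Finite G] [IsSimpleGroup G] (h : Lie.IsoChevG2 G) :
    ∃ p, p.Prime ∧ IsLieTypeChar p G ∧ SmallOff p G := by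
  obtain ⟨F, _, _, hF, ⟨e⟩⟩ := h
  obtain ⟨p, hp⟩ := CharP.exists F
  have hpp : p.Prime := CharP.char_is_prime F p
  refine ⟨p, hpp, ?_, (off_G2' F hF hpp).congr e.symm⟩
  unfold IsLieTypeChar IsExceptionalChevChar
  right; right; right; right; right; right; left
  exact ⟨F, inferInstance, inferInstance, hp, Or.inl ⟨hF, ⟨e⟩⟩⟩

/-! ### `³D₄(q)` -/

theorem off_3D4' (K : Type) [Field K] [Fintype K] {q : ℕ} (hq : IsPrimePow q) (hK : Fintype.card K = q ^ 3) {p : ℕ}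
    (hp : p.Prime) [CharP K p] : SmallOff p ↥(twistedD4 K q) := by
  have hq2 : 2 ≤ q := hq.two_le
  obtain ⟨s, k, hs, hk, hsq⟩ := id hq
  have hs := hs.nat_prime
  have hps : p = s := by
    have h0 : ((p : ℕ) : K) = 0 := CharP.cast_eq_zero K p
    obtain ⟨a, -, ha⟩ := FiniteField.card K p
    have h1 : p ∣ s ^ (k * 3) := by
      rw [pow_mul, hsq, ← hK, ha]
      exact dvd_pow_self p a.pos.ne'
    exact (Nat.prime_dvd_prime_iff_eq hp hs).1 (hp.dvd_of_dvd_pow h1)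
  subst hps
  have hcard := S1067.result hq hK
  have h1 : 1 ≤ q ^ 2 := Nat.one_le_pow _ _ (by omega)
  have h6 : 1 ≤ q ^ 6 := Nat.one_le_pow _ _ (by omega)
  have h24 : q ^ 2 ≤ q ^ 4 := Nat.pow_le_pow_right (by omega) (by norm_num)
  have hz : (2 : ℤ) ≤ q := by exact_mod_cast hq2
  have hz2 : (4 : ℤ) ≤ (q : ℤ) ^ 2 := by nlinarith
  have hΦ : (q : ℤ) ^ 4 - q ^ 2 + 1 ≤ (q : ℤ) ^ 4 := by nlinarith
  have hΦ1 : (13 : ℤ) ≤ (q : ℤ) ^ 4 - q ^ 2 + 1 := by nlinarith [mul_nonneg (sub_nonneg.2 hz2) (sub_nonneg.2 hz2)]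
  have h64 : (2 : ℤ) ^ 6 ≤ (q : ℤ) ^ 6 := pow_le_pow_left₀ (by norm_num) hz 6
  have hΦ0 : 0 < q ^ 4 - q ^ 2 + 1 := Nat.succ_pos _
  have hcard' : Nat.card ↥(twistedD4 K q) = p ^ (k * 12) * (((q ^ 2 - 1) ^ 2 * (q ^ 4 + q ^ 2 + 1) ^ 2) * (q ^ 4 - q ^ 2 + 1)) := by
    rw [hcard, pow_mul, hsq]
    have h5 : (q ^ 2 - 1) * (q ^ 6 - 1) * (q ^ 8 + q ^ 4 + 1) =
        ((q ^ 2 - 1) ^ 2 * (q ^ 4 + q ^ 2 + 1) ^ 2) * (q ^ 4 - q ^ 2 + 1) := by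
      zify [h1, h6, h24]
      ring
    rw [← h5]
    ring
  refine smallOff_of_smallAt hp (q ^ 4 - q ^ 2 + 1).primeFactors (k * 12) ((q ^ 2 - 1) ^ 2 * (q ^ 4 + q ^ 2 + 1) ^ 2)
    (q ^ 4 - q ^ 2 + 1) hcard' ?_ ?_ ?_
  · intro r hr hd
    exact Nat.mem_primeFactors.2 ⟨hr, hd, hΦ0.ne'⟩
  · rw [hcard]
    zify [h1, h6]
    have e1 : (((q : ℤ) ^ 2 - 1) ^ 2 * ((q : ℤ) ^ 4 + q ^ 2 + 1) ^ 2) ^ 2 = ((q : ℤ) ^ 6 - 1) ^ 2 * ((q : ℤ) ^ 6 - 1) ^ 2 := by ring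
    have e2 : (q : ℤ) ^ 12 * ((q : ℤ) ^ 2 - 1) * ((q : ℤ) ^ 6 - 1) * ((q : ℤ) ^ 8 + q ^ 4 + 1) =
        ((q : ℤ) ^ 6 - 1) ^ 2 * (((q : ℤ) ^ 6) ^ 2 * ((q : ℤ) ^ 4 - q ^ 2 + 1)) := by ring
    rw [e1, e2]
    have hpos : (0 : ℤ) < (q : ℤ) ^ 6 - 1 := by linarith
    refine mul_lt_mul_of_pos_left ?_ (by positivity)
    have h8 : ((q : ℤ) ^ 6 - 1) ^ 2 < ((q : ℤ) ^ 6) ^ 2 := pow_lt_pow_left₀ (by linarith) hpos.le (by norm_num)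
    have h9 : (0 : ℤ) < ((q : ℤ) ^ 6) ^ 2 := by positivity
    nlinarith
  · intro r hr hrp
    have hrK := (Nat.mem_primeFactors.1 hr).2.1
    have hz4 : ((q ^ 4 - q ^ 2 + 1 : ℕ) : ℤ) = (q : ℤ) ^ 4 - q ^ 2 + 1 := by
      push_cast [Nat.cast_sub h24]
      ring
    have hod : od q r = 12 := by
      refine H378.TwRows.od_of_c12 hrp ?_
      rw [H493.PGCyc.pv_c12, ← hz4]
      exact Int.natCast_dvd_natCast.2 hrK
    refine smallAt_of_cent hrp fun x hx => ⟨q ^ 4 - q ^ 2 + 1, nle_of_card ?_, ?_⟩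
    · have h2 := (H378.TwRows.cent_3D4 hq hK hrp hx hod).2
      have h3 : ((Polynomial.cyclotomic 12 ℤ).eval (q : ℤ)).natAbs = q ^ 4 - q ^ 2 + 1 := by
        have h4 : (Polynomial.cyclotomic 12 ℤ).eval (q : ℤ) = (q : ℤ) ^ 4 - q ^ 2 + 1 := H371.CycEval.ev12 q
        rw [h4, ← hz4, Int.natAbs_natCast]
      rw [h3] at h2
      exact Nat.le_of_dvd hΦ0 h2
    · rw [hcard]
      zify [h1, h6, h24]
      have e2 : (q : ℤ) ^ 12 * ((q : ℤ) ^ 2 - 1) * ((q : ℤ) ^ 6 - 1) * ((q : ℤ) ^ 8 + q ^ 4 + 1) =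
          ((q : ℤ) ^ 6 - 1) ^ 2 * (((q : ℤ) ^ 6) ^ 2 * ((q : ℤ) ^ 4 - q ^ 2 + 1)) := by ring
      rw [e2]
      have h7 : (1 : ℤ) < (q : ℤ) ^ 6 - 1 := by linarith
      have h8 : (q : ℤ) ^ 4 ≤ ((q : ℤ) ^ 6) ^ 2 := by
        rw [← pow_mul]
        exact pow_le_pow_right₀ (by linarith) (by norm_num)
      have h9 : ((q : ℤ) ^ 4 - q ^ 2 + 1) ^ 2 ≤ ((q : ℤ) ^ 6) ^ 2 * ((q : ℤ) ^ 4 - q ^ 2 + 1) := by
        rw [pow_two ((q : ℤ) ^ 4 - q ^ 2 + 1)]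
        gcongr
        linarith
      refine h9.trans_lt ?_
      have hpos : 0 < ((q : ℤ) ^ 6) ^ 2 * ((q : ℤ) ^ 4 - q ^ 2 + 1) := by positivity
      have h10 : (1 : ℤ) < ((q : ℤ) ^ 6 - 1) ^ 2 := by nlinarith
      nlinarith

theorem off_3D4 {G : Type u} [Group G] [Finite G] [IsSimpleGroup G] (h : Lie.Iso3D4 G) :
    ∃ p, p.Prime ∧ IsLieTypeChar p G ∧ SmallOff p G := by
  obtain ⟨K, _, _, q, hq, hK, ⟨e⟩⟩ := h
  obtain ⟨p, hp⟩ := CharP.exists K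
  have hpp : p.Prime := CharP.char_is_prime K p
  refine ⟨p, hpp, ?_, (off_3D4' K hq hK hpp).congr e.symm⟩
  unfold IsLieTypeChar IsTwistedE6D4Char
  right; right; right; right; right; right; right; left
  exact ⟨K, inferInstance, inferInstance, hp, q, hq, Or.inr ⟨hK, ⟨e⟩⟩⟩

end Cfsg.Agent.H270.NS
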